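import Mathlib

set_option autoImplicit false

namespace Cfsg.Agent.FrobThm

variable {G : Type*} [Group G]

theorem card_filter_mk_eq [Fintype G] [DecidableEq (ConjClasses G)] (x : G) :
    (Finset.univ.filter (fun y : G => ConjClasses.mk y = ConjClasses.mk x)).card =
      (Subgroup.centralizer {x}).index := by
  have h3 : (MulAction.stabilizer (ConjAct G) x).index = Nat.card (MulAction.orbit (ConjAct G) x) := by
    rw [MulAction.index_stabilizer]; rfl
  rw [ConjAct.stabilizer_eq_centralizer] at h3
  have h4 : (Subgroup.centralizer {ConjAct.toConjAct x}).index = (Subgroup.centralizer {x}).index := rfl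
  rw [h4] at h3
  rw [h3, ConjAct.orbit_eq_carrier_conjClasses, ← Fintype.card_subtype, ← Nat.card_eq_fintype_card]
  apply Nat.card_congr
  apply Equiv.subtypeEquivRight
  intro y
  rw [ConjClasses.mem_carrier_iff_mk_eq]

/-- Sums of class functions. -/
theorem dvd_sum_of_class [Fintype G] (f : G → ℕ) (hf : ∀ g x, f (g * x * g⁻¹) = f x) (m : ℕ)
    (h : ∀ x, m ∣ (Subgroup.centralizer {x}).index * f x) : m ∣ ∑ x, f x := by
  classical
  rw [← Finset.sum_fiberwise_of_maps_to (s := Finset.univ) (t := Finset.univ)
    (g := fun x : G => ConjClasses.mk x) (fun _ _ => Finset.mem_univ _)]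
  apply Finset.dvd_sum
  intro c _
  obtain ⟨x, rfl⟩ := ConjClasses.exists_rep c
  have h1 : ∀ y ∈ Finset.univ.filter (fun y : G => ConjClasses.mk y = ConjClasses.mk x), f y = f x := by
    intro y hy
    rw [Finset.mem_filter] at hy
    obtain ⟨_, hy⟩ := hy
    rw [ConjClasses.mk_eq_mk_iff_isConj] at hy
    obtain ⟨g, hg⟩ := isConj_iff.1 hy
    rw [← hg, hf]
  rw [Finset.sum_congr rfl h1, Finset.sum_const, smul_eq_mul, card_filter_mk_eq]
  exact h x

/-- The number of `y` commuting with `x` and satisfying `y ^ s = 1`. -/
noncomputable def cnt (x : G) (s : ℕ) : ℕ := Nat.card {y : G // Commute x y ∧ y ^ s = 1}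

theorem cnt_conj (g x : G) (s : ℕ) : cnt (g * x * g⁻¹) s = cnt x s := by
  apply Nat.card_congr
  refine Equiv.subtypeEquiv (MulAut.conj g⁻¹).toEquiv ?_
  intro y
  have h1 : (MulAut.conj g⁻¹).toEquiv y = g⁻¹ * y * g := by simp [MulAut.conj_apply]
  rw [h1]
  have h2 : (g⁻¹ * y * g) ^ s = g⁻¹ * y ^ s * g := by
    have := conj_pow (a := g⁻¹) (b := y) (i := s)
    rwa [inv_inv] at this
  rw [h2]
  constructor
  · rintro ⟨h3, h4⟩
    refine ⟨?_, by rw [h4]; group⟩
    have h5 : g * x * g⁻¹ * y = y * (g * x * g⁻¹) := h3
    show x * (g⁻¹ * y * g) = g⁻¹ * y * g * x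
    calc x * (g⁻¹ * y * g) = g⁻¹ * (g * x * g⁻¹ * y) * g := by group
      _ = g⁻¹ * (y * (g * x * g⁻¹)) * g := by rw [h5]
      _ = _ := by group
  · rintro ⟨h3, h4⟩
    have h5 : x * (g⁻¹ * y * g) = g⁻¹ * y * g * x := h3
    refine ⟨?_, ?_⟩
    · show g * x * g⁻¹ * y = y * (g * x * g⁻¹)
      calc g * x * g⁻¹ * y = g * (x * (g⁻¹ * y * g)) * g⁻¹ := by group
        _ = g * (g⁻¹ * y * g * x) * g⁻¹ := by rw [h5]
        _ = _ := by group
    · calc y ^ s = g * (g⁻¹ * y ^ s * g) * g⁻¹ := by group
        _ = 1 := by rw [h4]; group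

/-- Decomposition into commuting parts of coprime orders. -/
theorem card_decomp [Fintype G] [DecidableEq G] (a s : ℕ) (h : a.Coprime s) (P : G → Prop) [DecidablePred P] (e : ℕ)
    (he1 : e ≡ 1 [MOD a]) (he0 : e ≡ 0 [MOD s]) :
    Nat.card {g : G // g ^ (a * s) = 1 ∧ P (g ^ e)} =
      ∑ x ∈ Finset.univ.filter (fun x : G => x ^ a = 1 ∧ P x), cnt x s := by
  classical
  obtain ⟨e', he0', he1'⟩ := Nat.chineseRemainder h 0 1
  have hsum : e + e' ≡ 1 [MOD a * s] := by
    rw [← Nat.modEq_and_modEq_iff_modEq_mul h]
    constructor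
    · simpa using he1.add he0'
    · simpa using he0.add he1'
  have hpow : ∀ (x : G) (k i j : ℕ), x ^ k = 1 → i ≡ j [MOD k] → x ^ i = x ^ j := by
    intro x k i j hx hij
    have h1 : orderOf x ∣ k := orderOf_dvd_of_pow_eq_one hx
    exact pow_eq_pow_iff_modEq.2 (hij.of_dvd h1)
  have E : {g : G // g ^ (a * s) = 1 ∧ P (g ^ e)} ≃
      Σ x : {x : G // x ^ a = 1 ∧ P x}, {y : G // Commute x.1 y ∧ y ^ s = 1} := by
    refine
      { toFun := fun g => ⟨⟨g.1 ^ e, ?_, g.2.2⟩, ⟨g.1 ^ e', ?_, ?_⟩⟩
        invFun := fun z => ⟨z.1.1 * z.2.1, ?_, ?_⟩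
        left_inv := ?_
        right_inv := ?_ }
    · rw [← pow_mul]
      have h1 : s ∣ e := (Nat.modEq_zero_iff_dvd).1 he0
      obtain ⟨c, rfl⟩ := h1
      rw [show s * c * a = a * s * c by ring, pow_mul, g.2.1, one_pow]
    · exact Commute.pow_pow_self _ _ _
    · rw [← pow_mul]
      have h1 : a ∣ e' := (Nat.modEq_zero_iff_dvd).1 he0'
      obtain ⟨c, rfl⟩ := h1
      rw [show a * c * s = a * s * c by ring, pow_mul, g.2.1, one_pow]
    · rw [z.2.2.1.mul_pow, pow_mul, z.1.2.1, one_pow, one_mul, mul_comm a s, pow_mul, z.2.2.2, one_pow]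
    · have h1 : (z.1.1 * z.2.1) ^ e = z.1.1 := by
        rw [z.2.2.1.mul_pow, hpow z.1.1 a e 1 z.1.2.1 he1, hpow z.2.1 s e 0 z.2.2.2 he0, pow_one, pow_zero, mul_one]
      rw [h1]
      exact z.1.2.2
    · intro g
      apply Subtype.ext
      show g.1 ^ e * g.1 ^ e' = g.1
      rw [← pow_add, hpow g.1 (a * s) _ 1 g.2.1 hsum, pow_one]
    · rintro ⟨⟨x, hx, hPx⟩, ⟨y, hxy, hy⟩⟩
      have h1 : (x * y) ^ e = x := by
        rw [Commute.mul_pow hxy, hpow x a e 1 hx he1, hpow y s e 0 hy he0, pow_one, pow_zero, mul_one]
      have h2 : (x * y) ^ e' = y := by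
        rw [Commute.mul_pow hxy, hpow x a e' 0 hx he0', hpow y s e' 1 hy he1', pow_one, pow_zero, one_mul]
      simp only
      congr 1
      · exact Subtype.ext h1
      · have : ∀ (x' y' : G) (h1 : x' = x) (h2 : y' = y) (hc : Commute x' y' ∧ y' ^ s = 1),
            HEq (⟨y', hc⟩ : {y : G // Commute x' y ∧ y ^ s = 1}) (⟨y, hxy, hy⟩ : {y : G // Commute x y ∧ y ^ s = 1}) := by
          rintro _ _ rfl rfl hc
          rfl
        exact this _ _ h1 h2 _
  rw [Nat.card_congr E, Nat.card_sigma]
  rw [← Finset.sum_coe_sort (Finset.univ.filter (fun x : G => x ^ a = 1 ∧ P x)) (fun x => cnt x s)]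
  refine Fintype.sum_equiv (Equiv.subtypeEquivRight (by intro x; simp)) _ _ ?_
  intro x
  rfl

/-- `gcd` form: class sums over a set of elements. -/
theorem dvd_index_mul (x : G) [Finite G] (s c : ℕ) (hs : s ∣ Nat.card G)
    (hc : Nat.gcd s (Nat.card (Subgroup.centralizer {x})) ∣ c) :
    s ∣ (Subgroup.centralizer {x}).index * c := by
  have h1 : s ∣ (Subgroup.centralizer {x}).index * Nat.card (Subgroup.centralizer {x}) := by
    rw [mul_comm, Subgroup.card_mul_index]; exact hs
  have h2 : s ∣ (Subgroup.centralizer {x}).index * Nat.gcd s (Nat.card (Subgroup.centralizer {x})) := by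
    rw [← Nat.gcd_mul_left]
    exact Nat.dvd_gcd (Dvd.intro_left _ rfl) h1
  exact h2.trans (Nat.mul_dvd_mul_left _ hc)

/-- the number of elements of given order is divisible by the totient -/
theorem totient_dvd_card_orderOf_eq [Finite G] (d : ℕ) : Nat.totient d ∣ Nat.card {g : G // orderOf g = d} := by
  classical
  cases nonempty_fintype G
  have E : {g : G // orderOf g = d} ≃ Σ C : {C : Subgroup G // ∃ g : G, orderOf g = d ∧ Subgroup.zpowers g = C},
      {g : G // Subgroup.zpowers g = C.1} := by
    refine
      { toFun := fun g => ⟨⟨Subgroup.zpowers g.1, g.1, g.2, rfl⟩, ⟨g.1, rfl⟩⟩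
        invFun := fun z => ⟨z.2.1, ?_⟩
        left_inv := fun g => rfl
        right_inv := ?_ }
    · obtain ⟨g, hg1, hg2⟩ := z.1.2
      rw [← Nat.card_zpowers, z.2.2, ← hg2, Nat.card_zpowers, hg1]
    · rintro ⟨⟨C, g, hg, rfl⟩, ⟨y, hy⟩⟩
      simp only
      congr 1
      · exact Subtype.ext hy
      · have : ∀ (C C' : Subgroup G) (h : C = C') (h1 : Subgroup.zpowers y = C) (h2 : Subgroup.zpowers y = C'),
            HEq (⟨y, h1⟩ : {y : G // Subgroup.zpowers y = C}) (⟨y, h2⟩ : {y : G // Subgroup.zpowers y = C'}) := by
          rintro _ _ rfl _ _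
          rfl
        exact this _ _ hy _ _
  rw [Nat.card_congr E, Nat.card_sigma]
  apply Finset.dvd_sum
  rintro ⟨C, g, hg, rfl⟩ _
  have h1 : Nat.card {y : G // Subgroup.zpowers y = Subgroup.zpowers g} = Nat.totient d := by
    have h2 := IsCyclic.card_orderOf_eq_totient (α := Subgroup.zpowers g) (d := d)
      (by rw [← Nat.card_eq_fintype_card, Nat.card_zpowers, hg])
    rw [← h2, ← Fintype.card_subtype, ← Nat.card_eq_fintype_card]
    refine Nat.card_congr
      { toFun := fun y => ⟨⟨y.1, y.2.le (Subgroup.mem_zpowers _)⟩, ?_⟩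
        invFun := fun y => ⟨y.1.1, ?_⟩
        left_inv := fun y => rfl
        right_inv := fun y => rfl }
    · rw [Subgroup.orderOf_mk, ← Nat.card_zpowers, y.2, Nat.card_zpowers, hg]
    · have h3 : orderOf (y.1.1) = d := by rw [Subgroup.orderOf_coe]; exact y.2
      have h4 : Subgroup.zpowers y.1.1 ≤ Subgroup.zpowers g := by
        rw [Subgroup.zpowers_le]; exact y.1.2
      apply Subgroup.eq_of_le_of_card_ge h4
      rw [Nat.card_zpowers, Nat.card_zpowers, hg, h3]
  rw [h1]

/-- reduction of the exponent to a divisor of the group order -/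
theorem card_pow_gcd [Finite G] (m : ℕ) :
    Nat.card {g : G // g ^ m = 1} = Nat.card {g : G // g ^ (Nat.gcd m (Nat.card G)) = 1} := by
  apply Nat.card_congr
  apply Equiv.subtypeEquivRight
  intro g
  constructor
  · intro h
    exact orderOf_dvd_iff_pow_eq_one.1 (Nat.dvd_gcd (orderOf_dvd_of_pow_eq_one h) (orderOf_dvd_natCard g))
  · intro h
    obtain ⟨c, hc⟩ := Nat.gcd_dvd_left m (Nat.card G)
    calc g ^ m = g ^ (Nat.gcd m (Nat.card G) * c) := by rw [← hc]
      _ = 1 := by rw [pow_mul, h, one_pow]

/-- `cnt` as a count in the centralizer -/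
theorem cnt_eq_centralizer (x : G) (s : ℕ) :
    cnt x s = Nat.card {y : Subgroup.centralizer {x} // y ^ s = 1} := by
  refine Nat.card_congr
    { toFun := fun y => ⟨⟨y.1, Subgroup.mem_centralizer_singleton_iff.2 ?_⟩, ?_⟩
      invFun := fun y => ⟨y.1.1, ?_, ?_⟩
      left_inv := fun y => rfl
      right_inv := fun y => rfl }
  · exact y.2.1.symm
  · apply Subtype.ext; exact y.2.2
  · exact (Subgroup.mem_centralizer_singleton_iff.1 y.1.2).symm
  · have := congrArg Subtype.val y.2; simpa using this

/-- passing to the quotient by a central subgroup of order coprime to `s`. -/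
theorem card_pow_quotient [Finite G] (N : Subgroup G) [N.Normal] (hN : N ≤ Subgroup.center G) (s : ℕ)
    (hs : (Nat.card N).Coprime s) :
    Nat.card {y : G // y ^ s = 1} = Nat.card {y : G ⧸ N // y ^ s = 1} := by
  obtain ⟨e, he1, he0⟩ := Nat.chineseRemainder hs.symm 1 0
  refine Nat.card_congr (Equiv.ofBijective (fun y => ⟨(QuotientGroup.mk y.1 : G ⧸ N), ?_⟩) ⟨?_, ?_⟩)
  · rw [← QuotientGroup.mk_pow, y.2]; rfl
  · intro y z hyz
    have h1 : (QuotientGroup.mk y.1 : G ⧸ N) = QuotientGroup.mk z.1 := congrArg Subtype.val hyz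
    have h2 : y.1⁻¹ * z.1 ∈ N := QuotientGroup.eq.1 h1
    apply Subtype.ext
    have h3 : z.1 = y.1 * (y.1⁻¹ * z.1) := by group
    have h4 : Commute y.1 (y.1⁻¹ * z.1) := (Subgroup.mem_center_iff.1 (hN h2) y.1)
    have h5 : (y.1⁻¹ * z.1) ^ s = 1 := by
      have := h4.mul_pow s
      rw [← h3, z.2, y.2, one_mul] at this
      exact this.symm
    have h6 : (y.1⁻¹ * z.1) ^ (Nat.card N) = 1 := by
      have := pow_card_eq_one' (x := (⟨_, h2⟩ : N))
      exact congrArg Subtype.val this
    have h7 : y.1⁻¹ * z.1 = 1 := by
      rw [← orderOf_eq_one_iff]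
      exact Nat.eq_one_of_dvd_coprimes hs (orderOf_dvd_of_pow_eq_one h6) (orderOf_dvd_of_pow_eq_one h5)
    rw [h3, h7, mul_one]
  · rintro ⟨z, hz⟩
    obtain ⟨y, rfl⟩ := QuotientGroup.mk_surjective z
    have h1 : y ^ s ∈ N := by
      rw [← QuotientGroup.eq_one_iff]
      exact hz
    have h6 : y ^ (s * Nat.card N) = 1 := by
      have := pow_card_eq_one' (x := (⟨_, h1⟩ : N))
      rw [pow_mul]
      exact congrArg Subtype.val this
    refine ⟨⟨y ^ e, ?_⟩, ?_⟩
    · rw [← pow_mul]
      obtain ⟨c, hc⟩ := (Nat.modEq_zero_iff_dvd).1 he0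
      rw [hc, show Nat.card N * c * s = s * Nat.card N * c by ring, pow_mul, h6, one_pow]
    · apply Subtype.ext
      show (QuotientGroup.mk (y ^ e) : G ⧸ N) = QuotientGroup.mk y
      have h8 : (QuotientGroup.mk y : G ⧸ N) ^ e = (QuotientGroup.mk y : G ⧸ N) ^ 1 :=
        pow_eq_pow_iff_modEq.2 (he1.of_dvd (orderOf_dvd_of_pow_eq_one hz))
      rw [QuotientGroup.mk_pow, h8, pow_one]

/-- divisibility for a class-closed set of `a`-elements, given Frobenius's theorem for the relevant groups -/
theorem frobenius_aux (n : ℕ) : ∀ (G : Type*) [Group G] [Finite G], Nat.card G = n →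
    ∀ m : ℕ, m ∣ Nat.card G → m ∣ Nat.card {g : G // g ^ m = 1} := by
  induction n using Nat.strong_induction_on with
  | _ n ih =>
    intro G _ _ hG
    classical
    cases nonempty_fintype G
    -- inner induction on |G| / m
    have key : ∀ t m : ℕ, m * t = Nat.card G → m ∣ Nat.card {g : G // g ^ m = 1} := by
      intro t
      induction t using Nat.strong_induction_on with
      | _ t iht =>
        intro m hmt
        have hGpos : 0 < Nat.card G := Nat.card_pos
        have hm0 : 0 < m := by
          rcases Nat.eq_zero_or_pos m with h | h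
          · rw [h, zero_mul] at hmt; omega
          · exact h
        have ht0 : 0 < t := by
          rcases Nat.eq_zero_or_pos t with h | h
          · rw [h, mul_zero] at hmt; omega
          · exact h
        by_cases ht1 : t = 1
        · subst ht1
          rw [mul_one] at hmt
          subst hmt
          have : Nat.card {g : G // g ^ Nat.card G = 1} = Nat.card G := by
            apply Nat.card_congr
            exact Equiv.subtypeUnivEquiv (fun g => pow_card_eq_one')
          rw [this]
        · set p := t.minFac with hp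
          have hpp : p.Prime := Nat.minFac_prime ht1
          have : Fact p.Prime := ⟨hpp⟩
          obtain ⟨t', ht'⟩ := Nat.minFac_dvd t
          have ht'0 : 0 < t' := by
            rcases Nat.eq_zero_or_pos t' with h | h
            · rw [h, mul_zero] at ht'; omega
            · exact h
          have hlt : t' < t := by
            rw [ht']
            exact lt_mul_of_one_lt_left ht'0 hpp.one_lt
          have h1 : m * p ∣ Nat.card {g : G // g ^ (m * p) = 1} :=
            iht t' hlt (m * p) (by rw [← hmt]; conv_rhs => rw [ht']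
                                   ring)
          -- split
          obtain ⟨k, s, hs, hks⟩ := Nat.exists_eq_pow_mul_and_not_dvd hm0.ne' p hpp.ne_one
          have hcop : (p ^ (k + 1)).Coprime s := Nat.Coprime.pow_left _ ((Nat.Prime.coprime_iff_not_dvd hpp).2 hs)
          obtain ⟨e, he1, he0⟩ := Nat.chineseRemainder hcop 1 0
          have hmp : m * p = p ^ (k + 1) * s := by rw [hks]; ring
          have hsplit : Nat.card {g : G // g ^ (m * p) = 1} = Nat.card {g : G // g ^ m = 1} +
              Nat.card {g : G // g ^ (p ^ (k + 1) * s) = 1 ∧ orderOf (g ^ e) = p ^ (k + 1)} := by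
            have hE : ∀ g : G, g ^ (m * p) = 1 ↔ (g ^ m = 1 ∨
                (g ^ (p ^ (k + 1) * s) = 1 ∧ orderOf (g ^ e) = p ^ (k + 1))) := by
              intro g
              constructor
              · intro hg
                by_cases h2 : g ^ m = 1
                · exact Or.inl h2
                · right
                  rw [hmp] at hg
                  refine ⟨hg, ?_⟩
                  have h3 : (g ^ e) ^ (p ^ (k + 1)) = 1 := by
                    obtain ⟨c, hc⟩ := (Nat.modEq_zero_iff_dvd).1 he0
                    rw [← pow_mul, hc, show s * c * p ^ (k + 1) = p ^ (k + 1) * s * c by ring, pow_mul, hg, one_pow]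
                  apply orderOf_eq_prime_pow _ h3
                  intro h4
                  apply h2
                  -- g^(e p^k) = 1 and g ^ (p^(k+1) s) = 1 imply g ^ (p^k s) = 1
                  rw [hks]
                  apply orderOf_dvd_iff_pow_eq_one.1
                  rw [← pow_mul] at h4
                  have h5 : orderOf g ∣ e * p ^ k := orderOf_dvd_of_pow_eq_one h4
                  have h6 : orderOf g ∣ p ^ (k + 1) * s := orderOf_dvd_of_pow_eq_one hg
                  have h7 : orderOf g ∣ Nat.gcd (e * p ^ k) (p ^ (k + 1) * s) := Nat.dvd_gcd h5 h6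
                  refine h7.trans ?_
                  have h8 : Nat.gcd (e * p ^ k) (p ^ (k + 1) * s) = p ^ k * Nat.gcd e (p * s) := by
                    rw [show e * p ^ k = p ^ k * e by ring, show p ^ (k + 1) * s = p ^ k * (p * s) by ring,
                      Nat.gcd_mul_left]
                  rw [h8]
                  apply Nat.mul_dvd_mul_left
                  have h9 : (Nat.gcd e (p * s)).Coprime p := by
                    rw [Nat.coprime_comm, Nat.Prime.coprime_iff_not_dvd hpp]
                    intro h10
                    have h11 : p ∣ e := h10.trans (Nat.gcd_dvd_left _ _)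
                    have h12 : e ≡ 1 [MOD p] := he1.of_dvd (Dvd.intro_left (p ^ k) rfl)
                    have h13 : p ∣ 1 := (h12.dvd_iff dvd_rfl).1 h11
                    exact hpp.one_lt.ne' (Nat.dvd_one.1 h13)
                  exact h9.dvd_of_dvd_mul_left (Nat.gcd_dvd_right _ _)
              · rintro (h2 | ⟨h2, _⟩)
                · rw [pow_mul, h2, one_pow]
                · rw [hmp]; exact h2
            rw [Nat.card_congr (Equiv.subtypeEquivRight hE)]
            rw [Nat.card_eq_fintype_card, Nat.card_eq_fintype_card, Nat.card_eq_fintype_card]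
            apply Fintype.card_subtype_or_disjoint
            rw [Pi.disjoint_iff]
            intro g
            rw [Prop.disjoint_iff]
            by_contra hcon
            obtain ⟨h2, h3, h4⟩ := hcon
            have h5 : (g ^ e) ^ (p ^ k) = 1 := by
              obtain ⟨c, hc⟩ := (Nat.modEq_zero_iff_dvd).1 he0
              rw [← pow_mul, hc, show s * c * p ^ k = (p ^ k * s) * c by ring, ← hks, pow_mul, h2, one_pow]
            have h6 := orderOf_dvd_of_pow_eq_one h5
            rw [h4] at h6
            have := (Nat.pow_dvd_pow_iff_le_right hpp.one_lt).1 h6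
            omega
          rw [hsplit] at h1
          have h2 : m ∣ Nat.card {g : G // g ^ m = 1} +
              Nat.card {g : G // g ^ (p ^ (k + 1) * s) = 1 ∧ orderOf (g ^ e) = p ^ (k + 1)} :=
            (Dvd.intro _ rfl).trans h1
          refine (Nat.dvd_add_left ?_).1 h2
          -- now the key divisibility
          have hpk : p ^ k ∣ Nat.card {g : G // g ^ (p ^ (k + 1) * s) = 1 ∧ orderOf (g ^ e) = p ^ (k + 1)} := by
            -- partition by the order
            have E : {g : G // g ^ (p ^ (k + 1) * s) = 1 ∧ orderOf (g ^ e) = p ^ (k + 1)} ≃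
                Σ d : {d : ℕ // d ∈ (p ^ (k + 1) * s).divisors ∧ p ^ (k + 1) ∣ d}, {g : G // orderOf g = d.1} := by
              refine
                { toFun := fun g => ⟨⟨orderOf g.1, ?_, ?_⟩, ⟨g.1, rfl⟩⟩
                  invFun := fun z => ⟨z.2.1, ?_, ?_⟩
                  left_inv := fun g => rfl
                  right_inv := ?_ }
              · rw [Nat.mem_divisors]
                refine ⟨orderOf_dvd_of_pow_eq_one g.2.1, ?_⟩
                rw [← hmp]; exact (Nat.mul_pos hm0 hpp.pos).ne'
              · exact g.2.2.symm.dvd.trans (orderOf_pow_dvd e)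
              · apply orderOf_dvd_iff_pow_eq_one.1
                rw [z.2.2]
                exact Nat.dvd_of_mem_divisors z.1.2.1
              · have h3 : orderOf z.2.1 = z.1.1 := z.2.2
                have h4 : orderOf z.2.1 ∣ p ^ (k + 1) * s := by
                  rw [h3]; exact Nat.dvd_of_mem_divisors z.1.2.1
                apply Nat.dvd_antisymm
                · apply orderOf_dvd_of_pow_eq_one
                  obtain ⟨c, hc⟩ := (Nat.modEq_zero_iff_dvd).1 he0
                  rw [← pow_mul, hc, show s * c * p ^ (k + 1) = (p ^ (k + 1) * s) * c by ring, pow_mul,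
                    orderOf_dvd_iff_pow_eq_one.1 h4, one_pow]
                · have h5 : orderOf z.2.1 ∣ e * orderOf (z.2.1 ^ e) := by
                    apply orderOf_dvd_of_pow_eq_one
                    rw [pow_mul, pow_orderOf_eq_one]
                  have h6 : p ^ (k + 1) ∣ e * orderOf (z.2.1 ^ e) := by
                    refine Dvd.dvd.trans ?_ h5
                    rw [h3]; exact z.1.2.2
                  have h7 : (p ^ (k + 1)).Coprime e := by
                    have := he1.gcd_eq
                    rw [Nat.coprime_comm]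
                    unfold Nat.Coprime
                    rw [this]; simp
                  exact h7.dvd_of_dvd_mul_left h6
              · rintro ⟨⟨d, hd⟩, ⟨g, hg⟩⟩
                have hg' : orderOf g = d := hg
                subst hg'
                rfl
            have : Finite {d : ℕ // d ∈ (p ^ (k + 1) * s).divisors ∧ p ^ (k + 1) ∣ d} :=
              Finite.of_injective (fun d => (⟨d.1, d.2.1⟩ : {d // d ∈ (p ^ (k + 1) * s).divisors}))
                (by intro a b hab; exact Subtype.ext (by simpa using hab))
            cases nonempty_fintype {d : ℕ // d ∈ (p ^ (k + 1) * s).divisors ∧ p ^ (k + 1) ∣ d}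
            rw [Nat.card_congr E, Nat.card_sigma]
            apply Finset.dvd_sum
            rintro ⟨d, hd1, hd2⟩ _
            refine Dvd.dvd.trans ?_ (totient_dvd_card_orderOf_eq (G := G) d)
            refine Dvd.dvd.trans ?_ (Nat.totient_dvd_of_dvd hd2)
            rw [Nat.totient_prime_pow_succ hpp]
            exact Dvd.intro _ rfl
          have hsd : s ∣ Nat.card {g : G // g ^ (p ^ (k + 1) * s) = 1 ∧ orderOf (g ^ e) = p ^ (k + 1)} := by
            rw [card_decomp (p ^ (k + 1)) s hcop (fun x : G => orderOf x = p ^ (k + 1)) e he1 he0]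
            rw [Finset.sum_filter]
            apply dvd_sum_of_class
            · intro g x
              have h3 : (g * x * g⁻¹) ^ p ^ (k + 1) = 1 ↔ x ^ p ^ (k + 1) = 1 := by
                rw [conj_pow]; exact conj_eq_one_iff
              have h4 : orderOf (g * x * g⁻¹) = orderOf x := by
                have := orderOf_injective (MulAut.conj g).toMonoidHom (MulAut.conj g).injective x
                simpa using this
              rw [h3, h4, cnt_conj]
            · intro x
              by_cases hx : x ^ p ^ (k + 1) = 1 ∧ orderOf x = p ^ (k + 1)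
              · rw [if_pos hx]
                have hsG : s ∣ Nat.card G := by
                  rw [← hmt, hks]
                  exact ⟨p ^ k * t, by ring⟩
                apply dvd_index_mul x s _ hsG
                rw [cnt_eq_centralizer]
                -- centralizer C, central subgroup <x>
                set C := Subgroup.centralizer {x} with hC
                have hxC : x ∈ C := Subgroup.mem_centralizer_singleton_iff.2 rfl
                let x' : C := ⟨x, hxC⟩
                have hx'cen : Subgroup.zpowers x' ≤ Subgroup.center C := by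
                  rw [Subgroup.zpowers_le, Subgroup.mem_center_iff]
                  intro y
                  apply Subtype.ext
                  exact (Subgroup.mem_centralizer_singleton_iff.1 y.2)
                have : (Subgroup.zpowers x').Normal := ⟨fun a ha b => by
                  rw [Subgroup.mem_center_iff.1 (hx'cen ha) b, mul_inv_cancel_right]; exact ha⟩
                have hcard : Nat.card (Subgroup.zpowers x') = p ^ (k + 1) := by
                  rw [Nat.card_zpowers, Subgroup.orderOf_mk]; exact hx.2
                rw [card_pow_quotient (Subgroup.zpowers x') hx'cen s (by rw [hcard]; exact hcop)]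
                have hCcard : Nat.card C = Nat.card (C ⧸ Subgroup.zpowers x') * p ^ (k + 1) := by
                  rw [Subgroup.card_eq_card_quotient_mul_card_subgroup (Subgroup.zpowers x'), hcard]
                have hlt2 : Nat.card (C ⧸ Subgroup.zpowers x') < n := by
                  rw [← hG]
                  refine lt_of_lt_of_le ?_ (Subgroup.card_le_card_group C)
                  rw [hCcard]
                  exact lt_mul_of_one_lt_right Nat.card_pos (Nat.one_lt_pow (by omega) hpp.one_lt)
                rw [card_pow_gcd]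
                have h3 := ih _ hlt2 (C ⧸ Subgroup.zpowers x') rfl
                  (Nat.gcd s (Nat.card (C ⧸ Subgroup.zpowers x'))) (Nat.gcd_dvd_right _ _)
                refine Dvd.dvd.trans ?_ h3
                rw [hCcard]
                rw [Nat.Coprime.gcd_mul_right_cancel_right _ hcop]
              · rw [if_neg hx]; simp
          rw [hks]
          exact Nat.Coprime.mul_dvd_of_dvd_of_dvd (Nat.Coprime.pow_left _ ((Nat.Prime.coprime_iff_not_dvd hpp).2 hs)) hpk hsd
    rintro m ⟨t, ht⟩
    exact key t m ht.symm

/-- **Frobenius's theorem** on the number of solutions of `g ^ m = 1`. -/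
theorem dvd_card_pow_eq_one {G : Type*} [Group G] [Finite G] (m : ℕ) (hm : m ∣ Nat.card G) :
    m ∣ Nat.card {g : G // g ^ m = 1} :=
  frobenius_aux _ G rfl m hm

/-- general form -/
theorem gcd_dvd_card_pow_eq_one {G : Type*} [Group G] [Finite G] (m : ℕ) :
    Nat.gcd m (Nat.card G) ∣ Nat.card {g : G // g ^ m = 1} := by
  rw [card_pow_gcd]
  exact dvd_card_pow_eq_one _ (Nat.gcd_dvd_right _ _)

/-- class-closed sets of elements of order coprime to `s` -/
theorem dvd_sum_cnt {G : Type*} [Group G] [Fintype G] (s : ℕ) (hs : s ∣ Nat.card G)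
    (P : G → Prop) [DecidablePred P] (hP : ∀ g x, P (g * x * g⁻¹) ↔ P x) :
    s ∣ ∑ x ∈ Finset.univ.filter (fun x : G => P x), cnt x s := by
  rw [Finset.sum_filter]
  apply dvd_sum_of_class
  · intro g x
    rw [cnt_conj, if_congr (hP g x) rfl rfl]
  · intro x
    by_cases hx : P x
    · rw [if_pos hx]
      apply dvd_index_mul x s _ hs
      rw [cnt_eq_centralizer]
      exact gcd_dvd_card_pow_eq_one _
    · rw [if_neg hx]; simp

end Cfsg.Agent.FrobThm
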