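import Cfsg.Agent.FrobThm.Basic

set_option autoImplicit false

namespace Cfsg.Agent.FrobThm

/-- The number of elements of order `k`. -/
noncomputable def so (G : Type*) [Group G] (k : ℕ) : ℕ := Nat.card {g : G // orderOf g = k}

variable {G : Type*} [Group G]

theorem sum_so [Finite G] (m : ℕ) (hm : m ≠ 0) :
    ∑ d ∈ m.divisors, so G d = Nat.card {g : G // g ^ m = 1} := by
  classical
  cases nonempty_fintype G
  have h1 : Nat.card {g : G // g ^ m = 1} = (Finset.univ.filter (fun g : G => g ^ m = 1)).card := by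
    rw [Nat.card_eq_fintype_card, Fintype.card_subtype]
  rw [h1, Finset.card_eq_sum_card_fiberwise (f := fun g : G => orderOf g) (t := m.divisors)]
  · apply Finset.sum_congr rfl
    intro d hd
    unfold so
    rw [Nat.card_eq_fintype_card, Fintype.card_subtype]
    congr 1
    ext g
    simp only [Finset.mem_filter, Finset.mem_univ, true_and]
    constructor
    · intro h
      exact ⟨orderOf_dvd_iff_pow_eq_one.1 (h ▸ Nat.dvd_of_mem_divisors hd), h⟩
    · rintro ⟨_, h⟩
      exact h
  · intro g hg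
    simp only [Finset.coe_filter, Finset.mem_univ, true_and, Set.mem_ofPred_eq] at hg
    simp only [Finset.mem_coe, Nat.mem_divisors]
    exact ⟨orderOf_dvd_of_pow_eq_one hg, hm⟩

theorem dvd_sum_so [Finite G] (m : ℕ) (hm : m ∣ Nat.card G) :
    m ∣ ∑ d ∈ m.divisors, so G d := by
  rw [sum_so m (by rintro rfl; exact Nat.card_pos.ne' (Nat.eq_zero_of_zero_dvd hm))]
  exact dvd_card_pow_eq_one m hm

theorem sum_divisors_prime_mul {p m : ℕ} (hp : p.Prime) (hpm : p.Coprime m) (f : ℕ → ℕ) :
    ∑ d ∈ (p * m).divisors, f d = ∑ d ∈ m.divisors, f d + ∑ d ∈ m.divisors, f (p * d) := by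
  classical
  have hpm' : ¬ p ∣ m := (Nat.Prime.coprime_iff_not_dvd hp).1 hpm
  have hm0 : m ≠ 0 := by rintro rfl; exact hpm' (dvd_zero p)
  have h1 : (p * m).divisors = m.divisors ∪ m.divisors.image (fun d => p * d) := by
    ext d
    simp only [Finset.mem_union, Nat.mem_divisors, Finset.mem_image]
    constructor
    · rintro ⟨h1, h2⟩
      by_cases h3 : p ∣ d
      · obtain ⟨c, rfl⟩ := h3
        right
        exact ⟨c, ⟨Nat.dvd_of_mul_dvd_mul_left hp.pos h1, hm0⟩, rfl⟩
      · left
        exact ⟨((Nat.Prime.coprime_iff_not_dvd hp).2 h3).symm.dvd_of_dvd_mul_left h1, hm0⟩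
    · rintro (⟨h1, h2⟩ | ⟨c, ⟨h1, h2⟩, rfl⟩)
      · exact ⟨h1.mul_left p, mul_ne_zero hp.ne_zero hm0⟩
      · exact ⟨Nat.mul_dvd_mul_left p h1, mul_ne_zero hp.ne_zero hm0⟩
  rw [h1, Finset.sum_union, Finset.sum_image]
  · intro a _ b _ h
    exact Nat.eq_of_mul_eq_mul_left hp.pos h
  · rw [Finset.disjoint_left]
    intro d hd hd'
    obtain ⟨c, _, rfl⟩ := Finset.mem_image.1 hd'
    exact hpm' ((Dvd.intro _ rfl).trans (Nat.dvd_of_mem_divisors hd))

theorem so_one : so G 1 = 1 := by
  unfold so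
  have : Unique {g : G // orderOf g = 1} :=
    ⟨⟨⟨1, orderOf_one⟩⟩, fun g => Subtype.ext (orderOf_eq_one_iff.1 g.2)⟩
  exact Nat.card_unique

theorem totient_dvd_so [Finite G] (k : ℕ) : Nat.totient k ∣ so G k := totient_dvd_card_orderOf_eq k

theorem so_ne_zero_iff [Finite G] (k : ℕ) : so G k ≠ 0 ↔ ∃ g : G, orderOf g = k := by
  unfold so
  rw [Nat.card_ne_zero]
  constructor
  · rintro ⟨⟨g⟩, _⟩
    exact ⟨g.1, g.2⟩
  · rintro ⟨g, hg⟩
    exact ⟨⟨⟨g, hg⟩⟩, inferInstance⟩

theorem even_so [Finite G] (k : ℕ) (hk : 2 < k) : Even (so G k) :=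
  (even_iff_two_dvd).2 ((even_iff_two_dvd.1 (Nat.totient_even hk)).trans (totient_dvd_so k))

theorem so_prime_ne_zero [Finite G] (p : ℕ) (hp : p.Prime) (h : p ∣ Nat.card G) : so G p ≠ 0 := by
  have : Fact p.Prime := ⟨hp⟩
  rw [so_ne_zero_iff]
  exact exists_prime_orderOf_dvd_card' p h

/-- prime: `p ∣ 1 + s p` -/
theorem dvd_so_prime [Finite G] (p : ℕ) (hp : p.Prime) (h : p ∣ Nat.card G) : p ∣ 1 + so G p := by
  have := dvd_sum_so (G := G) p h
  rwa [Nat.Prime.sum_divisors hp, so_one, add_comm] at this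

theorem dvd_so_prime_mul [Finite G] (p m : ℕ) (hp : p.Prime) (hpm : p.Coprime m) (h : p * m ∣ Nat.card G) :
    p * m ∣ ∑ d ∈ m.divisors, so G d + ∑ d ∈ m.divisors, so G (p * d) := by
  have := dvd_sum_so (G := G) _ h
  rwa [sum_divisors_prime_mul hp hpm] at this

theorem dvd_so_two_primes [Finite G] (p q : ℕ) (hp : p.Prime) (hq : q.Prime) (hpq : p ≠ q) (h1 : p ∣ Nat.card G)
    (h2 : q ∣ Nat.card G) : p * q ∣ 1 + so G p + so G q + so G (p * q) := by
  have hcop : p.Coprime q := (Nat.coprime_primes hp hq).2 hpq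
  have := dvd_so_prime_mul (G := G) p q hp hcop (Nat.Coprime.mul_dvd_of_dvd_of_dvd hcop h1 h2)
  rw [Nat.Prime.sum_divisors hq, Nat.Prime.sum_divisors hq, so_one, mul_one] at this
  convert this using 1
  ring

theorem dvd_so_three_primes [Finite G] (p q r : ℕ) (hp : p.Prime) (hq : q.Prime) (hr : r.Prime)
    (hpq : p ≠ q) (hpr : p ≠ r) (hqr : q ≠ r) (h1 : p ∣ Nat.card G)
    (h2 : q ∣ Nat.card G) (h3 : r ∣ Nat.card G) :
    p * (q * r) ∣ 1 + so G p + so G q + so G r + so G (p * q) + so G (p * r) + so G (q * r) + so G (p * (q * r)) := by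
  have hcop1 : p.Coprime q := (Nat.coprime_primes hp hq).2 hpq
  have hcop2 : p.Coprime r := (Nat.coprime_primes hp hr).2 hpr
  have hcop3 : q.Coprime r := (Nat.coprime_primes hq hr).2 hqr
  have := dvd_so_prime_mul (G := G) p (q * r) hp (hcop1.mul_right hcop2)
    (Nat.Coprime.mul_dvd_of_dvd_of_dvd (hcop1.mul_right hcop2) h1 (Nat.Coprime.mul_dvd_of_dvd_of_dvd hcop3 h2 h3))
  rw [sum_divisors_prime_mul hq hcop3, sum_divisors_prime_mul hq hcop3,
    Nat.Prime.sum_divisors hr, Nat.Prime.sum_divisors hr, Nat.Prime.sum_divisors hr,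
    Nat.Prime.sum_divisors hr, so_one] at this
  simp only [mul_one] at this
  convert this using 1
  ring

theorem sum_divisors_four (f : ℕ → ℕ) : ∑ d ∈ (4 : ℕ).divisors, f d = f 1 + f 2 + f 4 := by
  rw [show (4 : ℕ).divisors = {1, 2, 4} by decide]
  rw [Finset.sum_insert (by decide), Finset.sum_insert (by decide), Finset.sum_singleton, add_assoc]

theorem dvd_so_four [Finite G] (h : 4 ∣ Nat.card G) : 4 ∣ 1 + so G 2 + so G 4 := by
  have := dvd_sum_so (G := G) 4 h
  rwa [sum_divisors_four, so_one] at this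

theorem coprime_four {p : ℕ} (hp : p.Prime) (hp2 : p ≠ 2) : p.Coprime 4 := by
  rw [show (4 : ℕ) = 2 ^ 2 by norm_num]
  exact Nat.Coprime.pow_right _ ((Nat.coprime_primes hp Nat.prime_two).2 hp2)

theorem dvd_so_four_mul [Finite G] (h : 4 ∣ Nat.card G) (p : ℕ) (hp : p.Prime) (hp2 : p ≠ 2) (h1 : p ∣ Nat.card G) :
    p * 4 ∣ 1 + so G 2 + so G 4 + so G p + so G (p * 2) + so G (p * 4) := by
  have hcop := coprime_four hp hp2
  have := dvd_so_prime_mul (G := G) p 4 hp hcop (Nat.Coprime.mul_dvd_of_dvd_of_dvd hcop h1 h)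
  rw [sum_divisors_four, sum_divisors_four, so_one, mul_one] at this
  convert this using 1
  ring

theorem dvd_so_four_mul_mul [Finite G] (h : 4 ∣ Nat.card G) (p q : ℕ) (hp : p.Prime) (hp2 : p ≠ 2)
    (hq : q.Prime) (hq2 : q ≠ 2) (hpq : p ≠ q) (h1 : p ∣ Nat.card G) (h2 : q ∣ Nat.card G) :
    p * (q * 4) ∣ 1 + so G 2 + so G 4 + so G p + so G (p * 2) + so G (p * 4) +
      so G q + so G (q * 2) + so G (q * 4) + so G (p * q) + so G (p * (q * 2)) + so G (p * (q * 4)) := by
  have hcop := coprime_four hp hp2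
  have hcop' := coprime_four hq hq2
  have hcop1 : p.Coprime q := (Nat.coprime_primes hp hq).2 hpq
  have := dvd_so_prime_mul (G := G) p (q * 4) hp (hcop1.mul_right hcop)
    (Nat.Coprime.mul_dvd_of_dvd_of_dvd (hcop1.mul_right hcop) h1 (Nat.Coprime.mul_dvd_of_dvd_of_dvd hcop' h2 h))
  rw [sum_divisors_prime_mul hq hcop', sum_divisors_prime_mul hq hcop', sum_divisors_four,
    sum_divisors_four, sum_divisors_four, sum_divisors_four, so_one] at this
  simp only [mul_one] at this
  convert this using 1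
  ring

/-- A unique involution is central, hence `so (k * 2) = so k` for odd `k`. -/
theorem exists_central_involution [Finite G] (h : so G 2 = 1) :
    ∃ z : G, orderOf z = 2 ∧ z ∈ Subgroup.center G ∧ ∀ x : G, orderOf x = 2 → x = z := by
  obtain ⟨z, hz⟩ := (so_ne_zero_iff (G := G) 2).1 (by rw [h]; exact one_ne_zero)
  have huniq : ∀ x : G, orderOf x = 2 → x = z := by
    intro x hx
    obtain ⟨w, hw⟩ := Nat.card_eq_one_iff_exists.1 h
    exact (congrArg Subtype.val (hw ⟨x, hx⟩)).trans (congrArg Subtype.val (hw ⟨z, hz⟩)).symm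
  refine ⟨z, hz, ?_, huniq⟩
  rw [Subgroup.mem_center_iff]
  intro g
  have h4 : orderOf (g * z * g⁻¹) = orderOf z := by
    have := orderOf_injective (MulAut.conj g).toMonoidHom (MulAut.conj g).injective z
    simpa using this
  have h5 := huniq (g * z * g⁻¹) (by rw [h4, hz])
  calc g * z = g * z * g⁻¹ * g := by group
    _ = z * g := by rw [h5]

theorem so_mul_two [Finite G] (h : so G 2 = 1) (k : ℕ) (hk : Odd k) : so G (k * 2) = so G k := by
  obtain ⟨z, hz, hzc, huniq⟩ := exists_central_involution h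
  have hcop : Nat.Coprime 2 k := Nat.coprime_two_left.2 hk
  have hk0 : k ≠ 0 := by rintro rfl; simp at hk
  have hzz : z * z = 1 := by
    have := pow_orderOf_eq_one z
    rwa [hz, sq] at this
  symm
  apply Nat.card_congr
  refine
    { toFun := fun g => ⟨z * g.1, ?_⟩
      invFun := fun g => ⟨z * g.1, ?_⟩
      left_inv := ?_
      right_inv := ?_ }
  · have hc : Commute z g.1 := (Subgroup.mem_center_iff.1 hzc g.1).symm
    rw [hc.orderOf_mul_eq_mul_orderOf_of_coprime (by rw [hz, g.2]; exact hcop), hz, g.2, mul_comm]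
  · have hg := g.2
    -- g ^ k has order 2 so equals z
    have h1 : orderOf (g.1 ^ k) = 2 := by
      rw [orderOf_pow_of_dvd hk0 (by rw [hg]; exact Dvd.intro _ rfl), hg, Nat.mul_div_cancel_left _ (Nat.pos_of_ne_zero hk0)]
    have h2 := huniq _ h1
    have h3 : orderOf (g.1 ^ (k + 1)) = k := by
      have h6 : (2 : ℕ) ∣ k + 1 := by
        obtain ⟨j, hj⟩ := hk
        exact ⟨j + 1, by omega⟩
      rw [orderOf_pow' _ (by omega), hg]
      have h5 : Nat.gcd (k * 2) (k + 1) = 2 := by
        have h7 : Nat.Coprime k (k + 1) := by simp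
        rw [Nat.Coprime.gcd_mul_left_cancel 2 h7]
        exact Nat.gcd_eq_left h6
      rw [h5]
      exact Nat.mul_div_cancel _ (by norm_num)
    rw [← h2, ← pow_succ]
    exact h3
  · intro g
    apply Subtype.ext
    show z * (z * g.1) = g.1
    rw [← mul_assoc, hzz, one_mul]
  · intro g
    apply Subtype.ext
    show z * (z * g.1) = g.1
    rw [← mul_assoc, hzz, one_mul]

/-- sum of the `so` over a finset is at most the order -/
theorem sum_so_le [Finite G] (t : Finset ℕ) : ∑ d ∈ t, so G d ≤ Nat.card G := by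
  classical
  cases nonempty_fintype G
  have h1 : Nat.card G = (Finset.univ : Finset G).card := by rw [Nat.card_eq_fintype_card, Finset.card_univ]
  rw [h1]
  have h2 : ∑ d ∈ t, so G d = ((Finset.univ : Finset G).filter (fun g => orderOf g ∈ t)).card := by
    rw [Finset.card_eq_sum_card_fiberwise (f := fun g : G => orderOf g) (t := t)]
    · apply Finset.sum_congr rfl
      intro d hd
      unfold so
      rw [Nat.card_eq_fintype_card, Fintype.card_subtype]
      congr 1
      ext g
      simp only [Finset.mem_filter, Finset.mem_univ, true_and]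
      constructor
      · intro h
        exact ⟨by rw [h]; exact hd, h⟩
      · rintro ⟨_, h⟩
        exact h
    · intro g hg
      simpa using hg
  rw [h2]
  exact Finset.card_filter_le _ _

end Cfsg.Agent.FrobThm
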