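import Mathlib

set_option autoImplicit false

open scoped Pointwise

namespace Cfsg.Agent.FrobThm

variable {G : Type*} [Group G]

/-- the order of the stabilizer of a finite subset divides its size -/
theorem card_stabilizer_dvd [Finite G] (X : Set G) :
    Nat.card (MulAction.stabilizer G X) ∣ Nat.card X := by
  set H := MulAction.stabilizer G X with hH
  have h1 : QuotientGroup.mk ⁻¹' (QuotientGroup.mk '' (X⁻¹) : Set (G ⧸ H)) = X⁻¹ := by
    apply subset_antisymm
    · rintro y ⟨s, hs, hsy⟩
      have h2 : s⁻¹ * y ∈ H := QuotientGroup.eq.1 hsy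
      rw [Set.mem_inv]
      have h3 : (s⁻¹ * y)⁻¹ ∈ H := H.inv_mem h2
      rw [hH, MulAction.mem_stabilizer_iff] at h3
      have h4 : (s⁻¹ * y)⁻¹ • s⁻¹ ∈ X := by
        rw [← h3]
        exact Set.smul_mem_smul_set (Set.mem_inv.1 hs)
      simpa using h4
    · exact Set.subset_preimage_image _ _
  have h2 := Nat.card_congr (QuotientGroup.preimageMkEquivSubgroupProdSet H (QuotientGroup.mk '' (X⁻¹)))
  rw [h1, Nat.card_prod] at h2
  have h3 : Nat.card (X⁻¹ : Set G) = Nat.card X := by
    rw [Nat.card_coe_set_eq, Nat.card_coe_set_eq, ← Set.image_inv_eq_inv, Set.ncard_image_of_injective _ inv_injective]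
  rw [← h3, h2]
  exact Dvd.intro _ rfl

/-- A set containing `1` whose stabilizer has the same size is a subgroup. -/
theorem eq_stabilizer [Finite G] (X : Set G) (h1 : (1 : G) ∈ X)
    (h : Nat.card (MulAction.stabilizer G X) = Nat.card X) : (MulAction.stabilizer G X : Set G) = X := by
  refine Set.eq_of_subset_of_ncard_le ?_ ?_ (Set.toFinite _)
  · intro g hg
    have hg' : g • X = X := hg
    rw [← hg']
    have := Set.smul_mem_smul_set (a := g) h1
    simpa using this
  · rw [← Nat.card_coe_set_eq, ← Nat.card_coe_set_eq]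
    exact h.ge

theorem stabilizer_coe_subgroup (H : Subgroup G) : MulAction.stabilizer G (H : Set G) = H := by
  ext g
  rw [MulAction.mem_stabilizer_iff]
  constructor
  · intro h
    have h1 : g • (1 : G) ∈ g • (H : Set G) := Set.smul_mem_smul_set H.one_mem
    rw [h] at h1
    simpa using h1
  · intro hg
    exact smul_coe_set hg

/-- The sets of cardinality `k`. -/
@[ext]
structure SetOf (G : Type*) (k : ℕ) where
  /-- the set -/
  val : Set G
  prop : Nat.card val = k

theorem card_smul_set (g : G) (X : Set G) : Nat.card (g • X : Set G) = Nat.card X := by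
  have : (g • X : Set G) = (fun x => g * x) '' X := rfl
  rw [Nat.card_coe_set_eq, Nat.card_coe_set_eq, this, Set.ncard_image_of_injective _ (mul_right_injective g)]

instance setOfAction (k : ℕ) : MulAction G (SetOf G k) where
  smul g X := ⟨g • X.1, by rw [card_smul_set]; exact X.2⟩
  one_smul X := SetOf.ext (one_smul G X.1)
  mul_smul g h X := SetOf.ext (mul_smul g h X.1)

theorem setOf_smul_val (k : ℕ) (g : G) (X : SetOf G k) : (g • X).1 = g • X.1 := rfl

instance setOfFinite [Finite G] (k : ℕ) : Finite (SetOf G k) := by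
  exact Finite.of_injective (fun X : SetOf G k => X.val) (fun _ _ h => SetOf.ext h)

theorem setOf_stabilizer (k : ℕ) (X : SetOf G k) : MulAction.stabilizer G X = MulAction.stabilizer G X.1 := by
  ext g
  rw [MulAction.mem_stabilizer_iff, MulAction.mem_stabilizer_iff]
  exact ⟨fun h => congrArg SetOf.val h, fun h => SetOf.ext h⟩

theorem card_setOf [Finite G] (k : ℕ) : Nat.card (SetOf G k) = (Nat.card G).choose k := by
  classical
  rw [← Set.powersetCard.card]
  refine Nat.card_congr
    { toFun := fun X => ⟨X.1.toFinite.toFinset, ?_⟩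
      invFun := fun s => ⟨(s.1 : Set G), ?_⟩
      left_inv := ?_
      right_inv := ?_ }
  · rw [Set.powersetCard.mem_iff, ← Set.ncard_eq_toFinset_card, ← Nat.card_coe_set_eq]
    exact X.2
  · rw [Nat.card_coe_set_eq, Set.ncard_coe_finset]
    exact Set.powersetCard.mem_iff.1 s.2
  · intro X
    apply SetOf.ext
    simp
  · intro s
    apply Subtype.ext
    simp

theorem card_orbit_mul [Finite G] (k : ℕ) (X : SetOf G k) :
    Nat.card (MulAction.orbit G X) * Nat.card (MulAction.stabilizer G X) = Nat.card G := by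
  rw [← Nat.card_prod]
  exact Nat.card_congr (MulAction.orbitProdStabilizerEquivGroup G X)

/-- Orbits with maximal stabilizer correspond to subgroups. -/
theorem card_orbits_eq [Finite G] (k : ℕ) (hk : 0 < k) :
    Nat.card {ω : MulAction.orbitRel.Quotient G (SetOf G k) // Nat.card ω.orbit * k = Nat.card G} =
      Nat.card {H : Subgroup G // Nat.card H = k} := by
  symm
  have hGpos : 0 < Nat.card G := Nat.card_pos
  let f : {H : Subgroup G // Nat.card H = k} →
      {ω : MulAction.orbitRel.Quotient G (SetOf G k) // Nat.card ω.orbit * k = Nat.card G} := fun H =>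
    ⟨Quotient.mk'' (⟨(H.1 : Set G), H.2⟩ : SetOf G k), by
      have h1 := card_orbit_mul k (⟨(H.1 : Set G), H.2⟩ : SetOf G k)
      rw [setOf_stabilizer, stabilizer_coe_subgroup, H.2] at h1
      exact h1⟩
  refine Nat.card_congr (Equiv.ofBijective f ⟨?_, ?_⟩)
  · intro H K hHK
    have h1 : (Quotient.mk'' (⟨(H.1 : Set G), H.2⟩ : SetOf G k) : MulAction.orbitRel.Quotient G (SetOf G k)) =
      Quotient.mk'' (⟨(K.1 : Set G), K.2⟩ : SetOf G k) := congrArg Subtype.val hHK
    obtain ⟨g, hg⟩ := Quotient.exact' h1
    have hg' : g • (K.1 : Set G) = (H.1 : Set G) := congrArg SetOf.val hg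
    apply Subtype.ext
    have h2 : (1 : G) ∈ g • (K.1 : Set G) := by rw [hg']; exact H.1.one_mem
    have h3 : g⁻¹ ∈ K.1 := by
      rw [Set.mem_smul_set_iff_inv_smul_mem] at h2
      simpa using h2
    have h4 : g • (K.1 : Set G) = (K.1 : Set G) := smul_coe_set (by simpa using K.1.inv_mem h3)
    exact SetLike.coe_injective (hg'.symm.trans h4)
  · rintro ⟨ω, hω⟩
    obtain ⟨X, rfl⟩ := Quotient.exists_rep ω
    have h1 := card_orbit_mul k X
    have h2 : Nat.card (MulAction.orbit G X) * k = Nat.card G := hω
    have hst : Nat.card (MulAction.stabilizer G X) = k := by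
      have h3 : 0 < Nat.card (MulAction.orbit G X) := by
        rcases Nat.eq_zero_or_pos (Nat.card (MulAction.orbit G X)) with h | h
        · rw [h, zero_mul] at h2; omega
        · exact h
      exact Nat.eq_of_mul_eq_mul_left h3 (h1.trans h2.symm)
    have hXne : X.1.Nonempty := by
      by_contra hne
      rw [Set.not_nonempty_iff_eq_empty] at hne
      have := X.2
      rw [hne, Nat.card_coe_set_eq, Set.ncard_empty] at this
      omega
    obtain ⟨x, hx⟩ := hXne
    have hone : (1 : G) ∈ (x⁻¹ • X).1 := by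
      rw [setOf_smul_val, Set.mem_smul_set_iff_inv_smul_mem]
      simpa using hx
    have hst2 : Nat.card (MulAction.stabilizer G (x⁻¹ • X)) = k := by
      have h3 := card_orbit_mul k (x⁻¹ • X)
      rw [MulAction.orbit_smul] at h3
      have h4 : 0 < Nat.card (MulAction.orbit G X) := by
        rcases Nat.eq_zero_or_pos (Nat.card (MulAction.orbit G X)) with h | h
        · rw [h, zero_mul] at h2; omega
        · exact h
      exact Nat.eq_of_mul_eq_mul_left h4 (h3.trans h2.symm)
    have h5 := eq_stabilizer (x⁻¹ • X).1 hone (by rw [← setOf_stabilizer, hst2]; exact (x⁻¹ • X).2.symm)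
    refine ⟨⟨MulAction.stabilizer G (x⁻¹ • X).1, by rw [← setOf_stabilizer]; exact hst2⟩, ?_⟩
    apply Subtype.ext
    refine Quotient.sound' ⟨x⁻¹, ?_⟩
    apply SetOf.ext
    exact h5.symm

theorem choose_modEq [Finite G] (p β m : ℕ) (hp : p.Prime) (hG : Nat.card G = p ^ β * m) :
    (Nat.card G).choose (p ^ β) ≡ m * Nat.card {H : Subgroup G // Nat.card H = p ^ β} [MOD m * p] := by
  classical
  have hk : 0 < p ^ β := pow_pos hp.pos β
  have hm : 0 < m := by
    rcases Nat.eq_zero_or_pos m with h | h
    · rw [h, mul_zero] at hG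
      exact absurd hG Nat.card_pos.ne'
    · exact h
  rw [← card_orbits_eq _ hk, ← card_setOf]
  set Ω := MulAction.orbitRel.Quotient G (SetOf G (p ^ β)) with hΩ
  have hfin : Finite Ω := Quotient.finite _
  cases nonempty_fintype Ω
  rw [Nat.card_congr (MulAction.selfEquivSigmaOrbits' G (SetOf G (p ^ β))), Nat.card_sigma]
  have h1 : Nat.card {ω : Ω // Nat.card ω.orbit * p ^ β = Nat.card G} =
      ∑ ω : Ω, if Nat.card ω.orbit * p ^ β = Nat.card G then 1 else 0 := by
    rw [Nat.card_eq_fintype_card, Fintype.card_subtype, Finset.card_filter]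
  rw [h1, ← ZMod.natCast_eq_natCast_iff, Finset.mul_sum]
  push_cast
  apply Finset.sum_congr rfl
  intro ω _
  obtain ⟨X, hX⟩ := Quotient.exists_rep ω
  have h2 : Nat.card ω.orbit * Nat.card (MulAction.stabilizer G X) = Nat.card G := by
    rw [← hX]; exact card_orbit_mul _ X
  by_cases h3 : Nat.card ω.orbit * p ^ β = Nat.card G
  · rw [if_pos h3]
    have h4 : Nat.card ω.orbit = m := by
      rw [hG, mul_comm] at h3
      exact Nat.eq_of_mul_eq_mul_left hk h3
    rw [h4]; simp
  · rw [if_neg h3]
    have h4 : Nat.card (MulAction.stabilizer G X) ∣ p ^ β := by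
      have := card_stabilizer_dvd X.1
      rw [← setOf_stabilizer, X.2] at this
      exact this
    obtain ⟨j, hj, hj2⟩ := (Nat.dvd_prime_pow hp).1 h4
    have h5 : j < β := by
      rcases Nat.lt_or_ge j β with h | h
      · exact h
      · exfalso
        have : j = β := le_antisymm hj h
        rw [this] at hj2
        rw [hj2] at h2
        exact h3 h2
    have h6 : Nat.card ω.orbit = (m * p) * p ^ (β - j - 1) := by
      rw [hj2, hG] at h2
      have h7 : p ^ β = p ^ j * p ^ (β - j - 1) * p := by
        rw [← pow_add, ← pow_succ]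
        congr 1
        omega
      have h8 : p ^ j * Nat.card ω.orbit = p ^ j * ((m * p) * p ^ (β - j - 1)) := by
        rw [mul_comm, h2, h7]; ring
      exact Nat.eq_of_mul_eq_mul_left (pow_pos hp.pos j) h8
    have h7 : ((Nat.card ω.orbit : ℕ) : ZMod (m * p)) = 0 := by
      rw [h6]
      push_cast
      have : ((m * p : ℕ) : ZMod (m * p)) = 0 := ZMod.natCast_self _
      push_cast at this
      rw [this, zero_mul]
    rw [h7]; simp

theorem card_subgroups_cyclic (n d : ℕ) (hn : 0 < n) (hd : d ∣ n) :
    Nat.card {H : Subgroup (Multiplicative (ZMod n)) // Nat.card H = d} = 1 := by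
  have : NeZero n := ⟨hn.ne'⟩
  have hcard : Nat.card (Multiplicative (ZMod n)) = n := by simp
  have hd0 : 0 < d := Nat.pos_of_dvd_of_pos hd hn
  rw [Nat.card_eq_one_iff_unique]
  constructor
  · constructor
    have key : ∀ H : Subgroup (Multiplicative (ZMod n)), Nat.card H = d →
        H = (powMonoidHom d : Multiplicative (ZMod n) →* Multiplicative (ZMod n)).ker := by
      intro H hH
      apply Subgroup.eq_of_le_of_card_ge
      · intro h hh
        rw [MonoidHom.mem_ker, powMonoidHom_apply]
        have h1 := pow_card_eq_one' (x := (⟨h, hh⟩ : H))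
        rw [hH] at h1
        exact congrArg Subtype.val h1
      · rw [IsCyclic.card_powMonoidHom_ker, hcard, hH]
        exact Nat.gcd_le_right n hd0
    rintro ⟨H, hH⟩ ⟨K, hK⟩
    exact Subtype.ext ((key H hH).trans (key K hK).symm)
  · refine ⟨⟨(powMonoidHom d : Multiplicative (ZMod n) →* Multiplicative (ZMod n)).ker, ?_⟩⟩
    rw [IsCyclic.card_powMonoidHom_ker, hcard]
    exact Nat.gcd_eq_right hd

/-- Wielandt: the number of subgroups of order `p ^ β` is `1` modulo `p`. -/
theorem card_subgroups_modEq_one [Finite G] (p β : ℕ) (hp : p.Prime) (hdiv : p ^ β ∣ Nat.card G) :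
    Nat.card {H : Subgroup G // Nat.card H = p ^ β} ≡ 1 [MOD p] := by
  obtain ⟨m, hm⟩ := hdiv
  have hm0 : 0 < m := by
    rcases Nat.eq_zero_or_pos m with h | h
    · rw [h, mul_zero] at hm
      exact absurd hm Nat.card_pos.ne'
    · exact h
  have hn : 0 < p ^ β * m := Nat.mul_pos (pow_pos hp.pos _) hm0
  have : NeZero (p ^ β * m) := ⟨hn.ne'⟩
  have h1 := choose_modEq p β m hp hm
  have hcard : Nat.card (Multiplicative (ZMod (p ^ β * m))) = p ^ β * m := by simp
  have h2 := choose_modEq (G := Multiplicative (ZMod (p ^ β * m))) p β m hp hcard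
  rw [card_subgroups_cyclic _ _ hn (Dvd.intro _ rfl), hcard, ← hm] at h2
  exact Nat.ModEq.mul_left_cancel' hm0.ne' (h1.symm.trans h2)

end Cfsg.Agent.FrobThm
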